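import Cfsg.Agent.GenDihedral.Four.L2Top
import Cfsg.Agent.GenDihedral.Red.Tools

/-!
Groups with a normal `PSL(2, q)` of odd index: orders of centralisers, index, rotation of a four-group.
-/

set_option autoImplicit false
set_option linter.unusedSectionVars false
set_option linter.style.haveILetI false

namespace Cfsg.Lib.FourGW

open Subgroup Cfsg.Lib.GenDihedral

universe u

/-- `Q = q (q + ε) / 2` for `q ≡ 3, 5 (mod 8)`. -/
def spreadQ (q : ℕ) : ℕ := if q % 4 = 1 then q * (2 * torT q + 1) else q * (2 * torT q - 1)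

theorem spreadQ_spec {q : ℕ} (hq : q % 8 = 3 ∨ q % 8 = 5) :
    (4 * torT q - 1) * (2 * torT q - 1) ≤ spreadQ q ∧ q * (q ^ 2 - 1) = 2 * (4 * torT q * spreadQ q) := by
  have hT := (torT_spec hq).1.pos
  have hsq : q ^ 2 - 1 = (q + 1) * (q - 1) := by
    have h' := Nat.sq_sub_sq q 1
    rwa [one_pow] at h'
  rw [hsq]
  rcases (torT_spec hq).2 with ⟨hm, he⟩ | ⟨hm, he⟩
  · rw [spreadQ, if_pos hm]
    refine ⟨Nat.mul_le_mul (by omega) (by omega), ?_⟩
    rw [show q - 1 = 4 * torT q by omega, show q + 1 = 2 * (2 * torT q + 1) by omega]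
    ring
  · rw [spreadQ, if_neg (by omega)]
    refine ⟨Nat.mul_le_mul (by omega) le_rfl, ?_⟩
    rw [he, show q - 1 = 2 * (2 * torT q - 1) by omega]
    ring

variable {X : Type u} [Group X] [Finite X]

theorem tor_le (L : Subgroup X) (t : X) : tor L t ≤ L := (closure_le _).2 fun _ h => h.1

namespace Top

variable {F : Type} [Field F] [Fintype F] {L : Subgroup X} (K : Top F L)
include K

theorem card_L : Nat.card L = 4 * torT (Fintype.card F) * spreadQ (Fintype.card F) := by
  have h := K.card_L_mul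
  rw [(spreadQ_spec K.hq).2, mul_comm] at h
  exact Nat.eq_of_mul_eq_mul_left two_pos h

theorem exists_conj_L {a b : X} (ha : orderOf a = 2) (hb : orderOf b = 2) : ∃ l ∈ L, l * a * l⁻¹ = b := by
  obtain ⟨e⟩ := K.iso
  obtain ⟨g, hg⟩ := isConj_iff.1 (Cfsg.Lib.Classical.PSLFour.involutions_conj K.odd_q
    (e ⟨a, K.mem_of_two ha⟩) (e ⟨b, K.mem_of_two hb⟩)
    (by rw [MulEquiv.orderOf_eq, Subgroup.orderOf_mk, ha]) (by rw [MulEquiv.orderOf_eq, Subgroup.orderOf_mk, hb]))
  refine ⟨(e.symm g : L), (e.symm g).2, ?_⟩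
  have h : e.symm g * ⟨a, K.mem_of_two ha⟩ * (e.symm g)⁻¹ = ⟨b, K.mem_of_two hb⟩ :=
    e.injective (by rw [map_mul, map_mul, map_inv, e.apply_symm_apply, hg])
  exact congrArg Subtype.val h

theorem card_centL {t : X} (ht : orderOf t = 2) :
    Nat.card (centralizer ({t} : Set X) ⊓ L : Subgroup X) = 4 * torT (Fintype.card F) := by
  obtain ⟨A, hA, -, hcard⟩ := K.exists_hyp ht
  have e : (centralizer ({t} : Set X) ⊓ L : Subgroup X) =
      (centralizer ({(⟨t, K.mem_of_two ht⟩ : L)} : Set L)).map L.subtype := by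
    ext x
    constructor
    · rintro ⟨hx, hxL⟩
      exact ⟨⟨x, hxL⟩, GenDihedral.mem_cent.2 (Subtype.ext (GenDihedral.mem_cent.1 hx)), rfl⟩
    · rintro ⟨y, hy, rfl⟩
      exact ⟨GenDihedral.mem_cent.2 (congrArg Subtype.val (GenDihedral.mem_cent.1 hy)), y.2⟩
  rw [e, card_map_of_injective L.subtype_injective, ← relIndex_bot_left, ← relIndex_mul_relIndex _ _ _ bot_le hA.le,
    relIndex_bot_left, hA.idx, hcard]
  ring

theorem sup_cent {t : X} (ht : orderOf t = 2) : centralizer ({t} : Set X) ⊔ L = ⊤ := by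
  haveI := K.normal
  refine eq_top_iff.2 fun g _ => ?_
  obtain ⟨l, hl, h⟩ := K.exists_conj_L ht (b := g * t * g⁻¹) (by rw [← MulAut.conj_apply, MulEquiv.orderOf_eq, ht])
  have h1 : l⁻¹ * g ∈ centralizer ({t} : Set X) := GenDihedral.mem_cent.2 (by
    calc l⁻¹ * g * t = l⁻¹ * (g * t * g⁻¹) * g := by group
      _ = l⁻¹ * (l * t * l⁻¹) * g := by rw [h]
      _ = t * (l⁻¹ * g) := by group)
  have := mul_mem (mem_sup_right (S := centralizer ({t} : Set X)) hl) (mem_sup_left (T := L) h1)
  rwa [mul_inv_cancel_left] at this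

theorem relIndex_cent {t : X} (ht : orderOf t = 2) : L.relIndex (centralizer ({t} : Set X)) = L.index := by
  haveI := K.normal
  rw [← Subgroup.relIndex_sup_right (K := L), K.sup_cent ht, relIndex_top_right]

theorem card_cent {t : X} (ht : orderOf t = 2) :
    Nat.card (centralizer ({t} : Set X)) = 4 * torT (Fintype.card F) * L.index := by
  rw [← K.relIndex_cent ht, ← relIndex_bot_left (centralizer ({t} : Set X)),
    ← relIndex_mul_relIndex ⊥ (centralizer ({t} : Set X) ⊓ L) _ bot_le inf_le_left, relIndex_bot_left,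
    K.card_centL ht, inf_relIndex_left]

/-- The index of the centraliser of an involution. -/
theorem index_cent {t : X} (ht : orderOf t = 2) :
    (centralizer ({t} : Set X)).index = spreadQ (Fintype.card F) := by
  have h := Subgroup.card_mul_index (centralizer ({t} : Set X))
  rw [K.card_cent ht, ← Subgroup.card_mul_index L, K.card_L] at h
  have hT := (torT_spec K.hq).1.pos
  refine Nat.eq_of_mul_eq_mul_left (show 0 < 4 * torT (Fintype.card F) * L.index from
    Nat.mul_pos (by omega) (Nat.pos_of_ne_zero Subgroup.index_ne_zero_of_finite)) ?_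
  rw [h]
  ring

/-- No element fixing `t` exchanges `u` and `t u`. -/
theorem no_swap {t u : X} (F4 : IsFour t u (t * u)) {g : X} (hgt : g * t = t * g) :
    g * u * g⁻¹ ≠ t * u := by
  intro hgu
  haveI := K.normal
  have ht := F4.z2
  have hu := F4.t2
  have hpow : ∀ k : ℕ, g ^ (2 * k + 1) * u * (g ^ (2 * k + 1))⁻¹ = t * u := by
    intro k
    induction k with
    | zero => simpa using hgu
    | succ k ih =>
      rw [show 2 * (k + 1) + 1 = 2 + (2 * k + 1) by ring, pow_add, ← conj_conj, ih, pow_two, ← conj_conj,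
        ← _root_.conj_mul (a := t) (b := g) (c := u), conj_fix_iff.2 hgt.symm, hgu, ← mul_assoc t t u, mul_self_of_two ht, one_mul, hgu]
  obtain ⟨k, hk⟩ := K.oddIndex
  set y := g ^ L.index with hy
  have hyL : y ∈ L := Subgroup.pow_index_mem L g
  have hyu : y * u * y⁻¹ = t * u := by rw [hy, hk]; exact hpow k
  have hyt : y * t = t * y := (show Commute g t from hgt).pow_left _
  obtain ⟨A, hA, -, hcard⟩ := K.exists_hyp ht
  set u' : L := ⟨u, K.mem_of_two hu⟩
  set t' : L := ⟨t, K.mem_of_two ht⟩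
  set y' : L := ⟨y, hyL⟩
  have hu'C : u' ∈ centralizer ({t'} : Set L) := GenDihedral.mem_cent.2 (Subtype.ext F4.comm.symm)
  have hy'C : y' ∈ centralizer ({t'} : Set L) := GenDihedral.mem_cent.2 (Subtype.ext hyt)
  have hu'A : u' ∉ A := hA.not_mem_A (by rw [Subgroup.orderOf_mk, hu]) fun e => F4.ne_zt (congrArg Subtype.val e).symm
  obtain ⟨a, ha, hau⟩ : ∃ a ∈ A, a * u' * a⁻¹ = t' * u' := by
    by_cases hyA : y' ∈ A
    · exact ⟨y', hyA, Subtype.ext hyu⟩
    · refine ⟨y' * u', hA.mul_mem_A hy'C hu'C hyA hu'A, Subtype.ext ?_⟩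
      show y * u * u * (y * u)⁻¹ = t * u
      rw [mul_inv_rev, inv_of_two hu, mul_assoc y u u, mul_self_of_two hu, mul_one, ← mul_assoc, hyu]
  have h1 := hA.inverts hu'C hu'A ha
  have hsq : a * a = t' := by
    have e : a * u' * a⁻¹ = a * a * u' := by
      calc a * u' * a⁻¹ = a * (u' * a⁻¹ * u'⁻¹) * u' := by group
        _ = a * (u' * a * u'⁻¹)⁻¹ * u' := by group
        _ = a * a * u' := by rw [h1, inv_inv]
    exact mul_right_cancel (e.symm.trans hau)
  have hT := (torT_spec K.hq).1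
  have h4 : orderOf a ∣ 4 := orderOf_dvd_of_pow_eq_one (by
    rw [show 4 = 2 * 2 from rfl, pow_mul, pow_two a, hsq, pow_two, mul_self_of_two (Subgroup.orderOf_mk t _ ▸ ht)])
  have h2T : orderOf a ∣ 2 * torT (Fintype.card F) := hcard ▸ Subgroup.orderOf_dvd_natCard A ha
  have h2 : orderOf a ∣ 2 := by
    have h := Nat.dvd_gcd h4 h2T
    rwa [show 4 = 2 * 2 from rfl, Nat.gcd_mul_left, Nat.coprime_iff_gcd_eq_one.1 (Nat.coprime_two_left.2 hT),
      mul_one] at h
  have h3 := orderOf_dvd_iff_pow_eq_one.1 h2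
  rw [pow_two, hsq] at h3
  have := congrArg Subtype.val h3
  rw [show (t' : X) = t from rfl, OneMemClass.coe_one] at this
  rw [this, orderOf_one] at ht
  omega

/-- An involution other than `t` commuting with `t` is moved to `u` or `t u` by the torus at `t`. -/
theorem exists_tor_move {t u y : X} (F4 : IsFour t u (t * u)) (hy : orderOf y = 2) (hne : y ≠ t)
    (hyt : y * t = t * y) : ∃ c ∈ tor L t, c⁻¹ * y * c = u ∨ c⁻¹ * y * c = t * u := by
  have ht := F4.z2
  have hu := F4.t2
  obtain ⟨A, hA, -, hcard⟩ := K.exists_hyp ht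
  set u' : L := ⟨u, K.mem_of_two hu⟩
  set t' : L := ⟨t, K.mem_of_two ht⟩
  set y' : L := ⟨y, K.mem_of_two hy⟩
  have ht' : orderOf t' = 2 := by rw [Subgroup.orderOf_mk, ht]
  have hu'C : u' ∈ centralizer ({t'} : Set L) := GenDihedral.mem_cent.2 (Subtype.ext F4.comm.symm)
  have hy'C : y' ∈ centralizer ({t'} : Set L) := GenDihedral.mem_cent.2 (Subtype.ext hyt)
  have hu'A : u' ∉ A := hA.not_mem_A (by rw [Subgroup.orderOf_mk, hu]) fun e => F4.ne_zt (congrArg Subtype.val e).symm
  have hy'A : y' ∉ A := hA.not_mem_A (by rw [Subgroup.orderOf_mk, hy]) fun e => hne (congrArg Subtype.val e)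
  set a := y' * u' with hadef
  have ha : a ∈ A := hA.mul_mem_A hy'C hu'C hy'A hu'A
  have hya : y' = a * u' := by
    rw [hadef, mul_assoc, mul_self_of_two (Subgroup.orderOf_mk u _ ▸ hu), mul_one]
  obtain ⟨j, hj⟩ := (torT_spec K.hq).1
  set T := torT (Fintype.card F)
  have hTT : a ^ (2 * T) = 1 :=
    orderOf_dvd_iff_pow_eq_one.1 (hcard ▸ Subgroup.orderOf_dvd_natCard A ha)
  -- `a = c * c * s` with `s ∈ {1, t}` and `c` of odd order
  set s := a ^ T with hsdef
  have hs : s = 1 ∨ s = t' := (two_or_one (x := s) (by rw [hsdef, ← pow_add, ← two_mul, hTT])).imp id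
    (hA.uniq _ (pow_mem ha T))
  set c := (a * s) ^ (j + 1) with hcdef
  have has : Commute a s := (Commute.refl a).pow_right T
  have hss : s * s = 1 := by rw [hsdef, ← pow_add, ← two_mul, hTT]
  have hasT : (a * s) ^ T = 1 := by
    rw [has.mul_pow, ← hsdef, hj, pow_succ, pow_mul, pow_two, hss, one_pow, one_mul, hss]
  have hcc : c * c = a * s := by
    rw [hcdef, ← pow_add, show j + 1 + (j + 1) = T + 1 by omega, pow_succ, hasT, one_mul]
  have hcA : c ∈ A := pow_mem (mul_mem ha (pow_mem ha T)) _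
  have hcT : (c : X) ∈ tor L t := by
    refine (K.mem_tor ht).2 ⟨c.2, congrArg Subtype.val (GenDihedral.mem_cent.1 (hA.le hcA)), ?_⟩
    rw [orderOf_coe]
    refine Odd.of_dvd_nat ⟨j, hj⟩ (orderOf_dvd_of_pow_eq_one ?_)
    rw [hcdef, ← pow_mul, mul_comm, pow_mul, hasT, one_pow]
  refine ⟨c, hcT, ?_⟩
  have hcy : c⁻¹ * y' * c = s * u' := by
    have h1 := hA.inverts hu'C hu'A hcA
    have hac : a = c * c * s := by rw [hcc, mul_assoc, hss, mul_one]
    have hsc : Commute s c := hA.comm _ (pow_mem ha T) _ hcA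
    calc c⁻¹ * y' * c = c⁻¹ * (c * c * s) * u' * c := by rw [hya, ← hac]; group
      _ = c⁻¹ * (c * (c * s)) * u' * c := by group
      _ = c⁻¹ * (c * (s * c)) * u' * c := by rw [hsc.eq]
      _ = s * c * (u' * c * u'⁻¹) * u' := by group
      _ = s * u' := by rw [h1, mul_assoc s c c⁻¹, mul_inv_cancel, mul_one]
  rcases hs with h | h
  · exact Or.inl (by rw [h, one_mul] at hcy; exact congrArg Subtype.val hcy)
  · exact Or.inr (by rw [h] at hcy; exact congrArg Subtype.val hcy)

/-- The order of the centraliser of the four-group. -/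
theorem card_cent_four {t u : X} (F4 : IsFour t u (t * u)) :
    Nat.card (centralizer ({t} : Set X) ⊓ centralizer ({u} : Set X) : Subgroup X) = 4 * L.index := by
  have ht := F4.z2
  set C := centralizer ({t} : Set X) with hC
  set N := (centralizer ({t} : Set X) ⊓ centralizer ({u} : Set X) : Subgroup X) with hN
  have hTC : tor L t ≤ C := fun c hc => GenDihedral.mem_cent.2 ((K.mem_tor ht).1 hc).2.1
  let φ : tor L t × N → C := fun p => ⟨(p.1 : X) * (p.2 : X), mul_mem (hTC p.1.2) p.2.2.1⟩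
  have hφ : Function.Bijective φ := by
    refine ⟨fun p q h => ?_, fun g => ?_⟩
    · have h' : (p.1 : X) * p.2 = q.1 * q.2 := congrArg Subtype.val h
      have h1 : (q.1 : X)⁻¹ * p.1 = q.2 * (p.2 : X)⁻¹ := by
        rw [eq_mul_inv_iff_mul_eq, mul_assoc, h', inv_mul_cancel_left]
      have h2 := K.eq_one_of_two_tori ht F4.t2 F4.ne_zt.symm F4.comm.symm
        (mul_mem (inv_mem q.1.2) p.1.2) (by
          rw [h1]; exact GenDihedral.mem_cent.1 (mul_mem q.2.2.2 (inv_mem p.2.2.2)))
      have e1 : q.1 = p.1 := Subtype.ext (inv_mul_eq_one.1 h2)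
      refine Prod.ext e1.symm (Subtype.ext ?_)
      rw [e1] at h'
      exact mul_left_cancel h'
    · have hg := GenDihedral.mem_cent.1 g.2
      obtain ⟨c, hc, h⟩ := K.exists_tor_move F4 (y := (g : X) * u * (g : X)⁻¹)
        (by rw [← MulAut.conj_apply, MulEquiv.orderOf_eq, F4.t2])
        (fun e => F4.ne_zt (by
          calc t = (g : X)⁻¹ * ((g : X) * t) := by group
            _ = (g : X)⁻¹ * (t * g) := by rw [hg]
            _ = u := by rw [← e]; group))
        (by
          have e : (g : X) * t * (g : X)⁻¹ = t := conj_fix_iff.2 hg.symm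
          rw [← e, _root_.conj_mul, _root_.conj_mul, F4.comm])
      have hcC : c⁻¹ * g ∈ C := mul_mem (inv_mem (hTC hc)) g.2
      have hcj : c⁻¹ * (g : X) * u * (c⁻¹ * (g : X))⁻¹ = c⁻¹ * ((g : X) * u * (g : X)⁻¹) * c := by group
      rcases h with h | h
      · refine ⟨(⟨c, hc⟩, ⟨c⁻¹ * g, hcC, GenDihedral.mem_cent.2 (mul_inv_eq_iff_eq_mul.1 (hcj.trans h))⟩),
          Subtype.ext (mul_inv_cancel_left c _)⟩
      · exact absurd (hcj.trans h) (K.no_swap F4 (GenDihedral.mem_cent.1 hcC))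
  have h := Nat.card_eq_of_bijective φ hφ
  rw [Nat.card_prod, K.card_tor ht, K.card_cent ht] at h
  refine Nat.eq_of_mul_eq_mul_left (torT_spec K.hq).1.pos ?_
  rw [h]
  ring

/-- A rotation of the four-group inside `L`. -/
theorem exists_rot_L {t u : X} (F4 : IsFour t u (t * u)) :
    ∃ l ∈ L, l * t * l⁻¹ = u ∧ (l * u * l⁻¹ = t ∨ l * u * l⁻¹ = t * u) := by
  obtain ⟨l, hl, hlt⟩ := K.exists_conj_L F4.z2 F4.t2
  have F4' : IsFour u t (u * t) := isFour_of_comm F4.t2 F4.z2 F4.comm.symm F4.ne_zt.symm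
  obtain ⟨c, hc, h⟩ := K.exists_tor_move F4' (y := l * u * l⁻¹)
    (by rw [← MulAut.conj_apply, MulEquiv.orderOf_eq, F4.t2])
    (fun e => F4.ne_zt ((MulAut.conj l).injective (e.trans hlt.symm)).symm)
    (by
      have := congrArg (fun x => l * x * l⁻¹) F4.comm
      simp only [← _root_.conj_mul, hlt] at this
      exact this.symm)
  refine ⟨c⁻¹ * l, mul_mem (inv_mem (tor_le L u hc)) hl, ?_, ?_⟩
  · calc c⁻¹ * l * t * (c⁻¹ * l)⁻¹ = c⁻¹ * (l * t * l⁻¹) * c := by group
      _ = u := by rw [hlt, mul_assoc, ← ((K.mem_tor F4.t2).1 hc).2.1, inv_mul_cancel_left]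
  · have e : c⁻¹ * l * u * (c⁻¹ * l)⁻¹ = c⁻¹ * (l * u * l⁻¹) * c := by group
    rw [e, F4.comm]
    exact h

/-- A perfect normal subgroup is trivial or contains `L`. -/
theorem le_of_perfect {E : Subgroup X} [hE : E.Normal] (hp : ⁅E, E⁆ = E) (hne : E ≠ ⊥) : L ≤ E := by
  haveI := K.normal
  have hodd : Odd (Nat.card (X ⧸ L)) := by rw [← index_eq_card]; exact K.oddIndex
  haveI : Group.IsSolvable (X ⧸ L) := Cfsg.Agent.PF.isSolvable_of_odd _ hodd
  have hEL : E ≤ L := by
    have h1 : E.map (QuotientGroup.mk' L) = ⊥ := by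
      by_contra h
      have h2 := IsSolvable.commutator_lt_of_ne_bot h
      rw [← map_commutator, hp] at h2
      exact lt_irrefl _ h2
    rwa [Subgroup.map_eq_bot_iff, QuotientGroup.ker_mk'] at h1
  obtain ⟨e⟩ := K.iso
  by_cases h3 : 3 < Fintype.card F
  · haveI : IsSimpleGroup (Matrix.ProjectiveSpecialLinearGroup (Fin 2) F) :=
      Matrix.ProjectiveSpecialLinearGroup.rank_two_simple (by rw [Nat.card_eq_fintype_card]; omega)
    haveI : IsSimpleGroup L := e.isSimpleGroup
    haveI : (E.subgroupOf L).Normal := normal_subgroupOf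
    rcases (inferInstance : (E.subgroupOf L).Normal).eq_bot_or_eq_top with h | h
    · rw [subgroupOf_eq_bot] at h
      exact absurd (disjoint_self.1 (h.mono_right hEL)) hne
    · exact subgroupOf_eq_top.1 h
  · exfalso
    have hq : Fintype.card F = 3 := by have := K.hq; omega
    have hL12 : Nat.card L < 60 := by rw [K.card_L, hq]; decide
    haveI : Group.IsSolvable L := solvable_small hL12
    haveI : Group.IsSolvable E := solvable_of_le hEL inferInstance
    haveI : Nontrivial E := (nontrivial_iff_ne_bot E).2 hne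
    have h2 := IsSolvable.commutator_lt_top_of_nontrivial E
    refine h2.ne (map_injective E.subtype_injective ?_)
    rw [_root_.commutator_def, map_commutator, ← MonoidHom.range_eq_map, Subgroup.range_subtype, hp]

end Top

end Cfsg.Lib.FourGW
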