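import Cfsg.Agent.GenDihedral.Setup
import Cfsg.Agent.Classical.Misc.PSLFourGroupsMain
import Cfsg.Agent.Known.SLTwo.Tori

/-!
The involution centraliser of `PSL(2, q)`, `q` odd, in the form of `GenDihedral.Hyp`.
-/

set_option autoImplicit false
set_option linter.unusedSectionVars false
set_option linter.style.haveILetI false

namespace Cfsg.Lib.FourGW

open Subgroup Matrix Cfsg.Lib.GenDihedral Cfsg.Lib.Classical
open scoped MatrixGroups

universe u

variable {F : Type u} [Field F] [Fintype F]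

local notation "P2" => Matrix.ProjectiveSpecialLinearGroup (Fin 2) F
local notation "π" => (PSLFour.π (F := F))

/-- `T = (q - ε) / 4` for `q ≡ 3, 5 (mod 8)`. -/
def torT (q : ℕ) : ℕ := if q % 4 = 1 then (q - 1) / 4 else (q + 1) / 4

theorem torT_spec {q : ℕ} (hq : q % 8 = 3 ∨ q % 8 = 5) :
    Odd (torT q) ∧ ((q % 4 = 1 ∧ q = 4 * torT q + 1) ∨ (q % 4 = 3 ∧ q + 1 = 4 * torT q)) := by
  unfold torT
  split_ifs with h <;> rw [Nat.odd_iff] <;> omega

theorem anti_sq {g : SL(2, F)} (h : g * PSLFour.J = -(PSLFour.J * g)) : g * g = -1 := by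
  refine (PSLFour.sq_iff g).2 ?_
  have h0 := congrArg (fun y : SL(2, F) => y.1 0 1) h
  simp [PSLFour.val_mul, PSLFour.val_neg, PSLFour.J, PSLFour.sl00, PSLFour.sl01, PSLFour.sl10,
    PSLFour.sl11] at h0
  linear_combination h0

/-- The image of the centraliser of `J`. -/
noncomputable def tA : Subgroup P2 := (PSLFour.C (F := F)).map π

theorem mem_tA {g : SL(2, F)} : π g ∈ (tA : Subgroup P2) ↔ g ∈ PSLFour.C (F := F) := by
  refine ⟨?_, fun h => mem_map_of_mem _ h⟩
  rintro ⟨c, hc, e⟩
  rcases PSLFour.π_eq_iff.1 e with rfl | rfl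
  · exact hc
  · obtain ⟨h0, h1⟩ := PSLFour.mem_C.1 hc
    exact PSLFour.mem_C.2 ⟨by simp [h0], by simp [h1]⟩

variable (hodd : Odd (Fintype.card F))
include hodd

theorem mem_cent_J {g : SL(2, F)} : π g ∈ centralizer ({π PSLFour.J} : Set P2) ↔
    g ∈ PSLFour.C (F := F) ∨ g * PSLFour.J = -(PSLFour.J * g) := by
  rw [GenDihedral.mem_cent, ← map_mul, ← map_mul, PSLFour.π_eq_iff, PSLFour.C, mem_centralizer_singleton_iff]
  constructor
  · rintro (h | h)
    · exact Or.inl h.symm
    · exact Or.inr (by rw [h, neg_neg])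
  · rintro (h | h)
    · exact Or.inl h.symm
    · exact Or.inr (by rw [h, neg_neg])

theorem orderOf_πJ : orderOf (π PSLFour.J) = 2 :=
  orderOf_eq_prime (by rw [pow_two, ← map_mul, PSLFour.J_sq, PSLFour.π_neg, map_one]) fun h => by
    have hJ := PSLFour.J_sq (F := F)
    rcases PSLFour.π_one_iff.1 h with e | e <;> rw [e] at hJ <;>
      exact PSLFour.neg_one_ne hodd (by simpa using hJ.symm)

theorem tA_relIndex : (tA : Subgroup P2).relIndex (centralizer ({π PSLFour.J} : Set P2)) = 2 := by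
  obtain ⟨h, hh, hJh, -⟩ := PSLFour.exists_anti (F := F) hodd
  have hanti : h * PSLFour.J = -(PSLFour.J * h) := by rw [hJh, neg_neg]
  have hhC : h ∉ PSLFour.C (F := F) := fun hc => by
    rw [PSLFour.C, mem_centralizer_singleton_iff] at hc
    rw [hc] at hanti
    exact PSLFour.neg_ne hodd _ hanti.symm
  refine Subgroup.index_eq_two_iff'.2 ⟨⟨π h, (mem_cent_J hodd).2 (Or.inr hanti)⟩, fun ⟨y, hy⟩ => ?_⟩
  obtain ⟨g, rfl⟩ := QuotientGroup.mk'_surjective _ y
  simp only [mem_subgroupOf, Subgroup.coe_mul, ← map_mul, mem_tA]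
  rcases (mem_cent_J hodd).1 hy with hg | hg
  · exact Or.inr ⟨hg, fun h' => hhC ((Subgroup.mul_mem_cancel_right _ hg).1 h')⟩
  · refine Or.inl ⟨?_, fun hgC => ?_⟩
    · rw [PSLFour.C, mem_centralizer_singleton_iff]
      calc h * g * PSLFour.J = h * (g * PSLFour.J) := by rw [mul_assoc]
        _ = -(h * PSLFour.J * g) := by rw [hg, mul_neg, mul_assoc]
        _ = PSLFour.J * (h * g) := by rw [hanti, neg_mul, neg_neg, mul_assoc]
    · rw [PSLFour.C, mem_centralizer_singleton_iff] at hgC
      rw [hgC] at hg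
      exact PSLFour.neg_ne hodd _ hg.symm

/-- `|A| = (q - ε) / 2`. -/
theorem two_mul_card_tA : 2 * Nat.card (tA : Subgroup P2) = Nat.card ↥(PSLFour.C (F := F)) := by
  classical
  have h1 := Subgroup.card_eq_card_quotient_mul_card_subgroup ((π).subgroupMap (PSLFour.C (F := F))).ker
  rw [Nat.card_congr (QuotientGroup.quotientKerEquivOfSurjective _
    (MonoidHom.subgroupMap_surjective π (PSLFour.C (F := F)))).toEquiv] at h1
  have hk : Nat.card ((π).subgroupMap (PSLFour.C (F := F))).ker = 2 := by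
    have hneg : (-1 : SL(2, F)) ∈ PSLFour.C (F := F) := PSLFour.mem_C.2 ⟨by simp, by simp⟩
    have hset : ((((π).subgroupMap (PSLFour.C (F := F))).ker : Subgroup _) : Set ↥(PSLFour.C (F := F))) =
        ↑({1, ⟨-1, hneg⟩} : Finset ↥(PSLFour.C (F := F))) := by
      ext x
      simp only [SetLike.mem_coe, MonoidHom.mem_ker, Subtype.ext_iff, Finset.coe_insert, Finset.coe_singleton,
        Set.mem_insert_iff, Set.mem_singleton_iff]
      exact PSLFour.π_one_iff
    rw [← SetLike.coe_sort_coe, hset, Nat.card_coe_set_eq, Set.ncard_coe_finset, Finset.card_pair]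
    exact fun e => PSLFour.neg_one_ne hodd (congrArg Subtype.val e).symm
  rw [h1, hk, mul_comm]
  rfl

theorem card_tA (hq : Fintype.card F % 8 = 3 ∨ Fintype.card F % 8 = 5) :
    Nat.card (tA : Subgroup P2) = 2 * torT (Fintype.card F) := by
  have h := two_mul_card_tA hodd
  have hC := PSLFour.card_C (F := F) hodd
  rcases (torT_spec hq).2 with ⟨hm, he⟩ | ⟨hm, he⟩
  · rw [hC.1 hm] at h; omega
  · rw [hC.2 hm] at h; omega

theorem card_cent_J (hq : Fintype.card F % 8 = 3 ∨ Fintype.card F % 8 = 5) :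
    Nat.card (centralizer ({π PSLFour.J} : Set P2)) = 4 * torT (Fintype.card F) := by
  have hle : (tA : Subgroup P2) ≤ centralizer ({π PSLFour.J} : Set P2) := by
    rintro _ ⟨c, hc, rfl⟩
    exact (mem_cent_J hodd).2 (Or.inl hc)
  rw [← relIndex_bot_left, ← relIndex_mul_relIndex _ _ _ bot_le hle, relIndex_bot_left, tA_relIndex hodd,
    card_tA hodd hq]
  ring

theorem hyp_J (hoddIdx : Odd (centralizer ({π PSLFour.J} : Set P2)).index) : Hyp (π PSLFour.J) (tA : Subgroup P2) where
  two := orderOf_πJ hodd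
  mem := mem_map_of_mem _ (mem_centralizer_singleton_iff.2 rfl)
  le := by
    rintro _ ⟨c, hc, rfl⟩
    exact (mem_cent_J hodd).2 (Or.inl hc)
  comm := by
    rintro _ ⟨a, ha, rfl⟩ _ ⟨b, hb, rfl⟩
    rw [← map_mul, ← map_mul, PSLFour.C_comm ha hb]
  idx := tA_relIndex hodd
  uniq := by
    rintro _ ⟨g, hg, rfl⟩ h2
    have h1 : π g * π g = 1 := mul_self_of_two h2
    rw [← map_mul, PSLFour.π_one_iff] at h1
    rcases h1 with h1 | h1
    · rw [PSLFour.π_one_iff.2 (PSLFour.eq_or_neg hodd h1), orderOf_one] at h2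
      omega
    · have hs := (PSLFour.sq_iff g).1 h1
      obtain ⟨h0, h10⟩ := PSLFour.mem_C.1 hg
      have ha : g.1 0 0 = 0 := (mul_eq_zero.1 (show (2 : F) * g.1 0 0 = 0 by
        linear_combination hs.symm.trans h0 * (-1))).resolve_left (PSLFour.two_ne hodd)
      have hd := PSLFour.det_eq_one g
      rw [h10, hs, ha] at hd
      rcases mul_self_eq_one_iff.1 (show g.1 0 1 * g.1 0 1 = 1 by linear_combination hd) with hb | hb
      · congr 1
        refine PSLFour.ext_four ?_ ?_ ?_ ?_ <;>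
          simp [PSLFour.J, PSLFour.sl00, PSLFour.sl01, PSLFour.sl10, PSLFour.sl11, ha, hb, h10, hs]
      · rw [← PSLFour.π_neg g]
        congr 1
        refine PSLFour.ext_four ?_ ?_ ?_ ?_ <;>
          simp [PSLFour.val_neg, PSLFour.J, PSLFour.sl00, PSLFour.sl01, PSLFour.sl10, PSLFour.sl11, ha, hb, h10, hs]
  out := by
    intro y hy hyA
    obtain ⟨g, rfl⟩ := QuotientGroup.mk'_surjective _ y
    rcases (mem_cent_J hodd).1 hy with hg | hg
    · exact absurd (mem_tA.2 hg) hyA
    · rw [← map_mul, anti_sq hg, PSLFour.π_neg, map_one]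
  oddIdx := hoddIdx

theorem card_P2_mul : Nat.card P2 * 2 = Fintype.card F * (Fintype.card F ^ 2 - 1) := by
  classical
  rw [← SLTwoTori.card_SL2, Subgroup.card_eq_card_quotient_mul_card_subgroup (Subgroup.center SL(2, F))]
  congr 1
  have hneg : ∀ z : SL(2, F), z ∈ Subgroup.center SL(2, F) ↔ z = 1 ∨ z = -1 := fun z => by
    rw [← PSLFour.π_one_iff, QuotientGroup.mk'_apply, QuotientGroup.eq_one_iff]
  have hset : ((Subgroup.center SL(2, F)) : Set SL(2, F)) = ↑({1, -1} : Finset SL(2, F)) := by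
    ext z; simp [hneg]
  rw [← SetLike.coe_sort_coe, hset, Nat.card_coe_set_eq, Set.ncard_coe_finset,
    Finset.card_pair (Ne.symm (PSLFour.neg_one_ne hodd))]

omit hodd in
theorem odd_of_mod (hq : Fintype.card F % 8 = 3 ∨ Fintype.card F % 8 = 5) : Odd (Fintype.card F) :=
  Nat.odd_iff.2 (by omega)

/-- The spread `q (q + ε) / 2`. -/
theorem two_mul_index (hq : Fintype.card F % 8 = 3 ∨ Fintype.card F % 8 = 5) :
    2 * (centralizer ({π PSLFour.J} : Set P2)).index =
      Fintype.card F * (if Fintype.card F % 4 = 1 then Fintype.card F + 1 else Fintype.card F - 1) := by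
  have hsq : Fintype.card F ^ 2 - 1 = (Fintype.card F + 1) * (Fintype.card F - 1) := by
    have h' := Nat.sq_sub_sq (Fintype.card F) 1
    rwa [one_pow] at h'
  have hcard := card_P2_mul hodd
  rw [← Subgroup.card_mul_index (centralizer ({π PSLFour.J} : Set P2)), card_cent_J hodd hq, hsq] at hcard
  have hT := (torT_spec hq).1.pos
  refine Nat.eq_of_mul_eq_mul_left (show 0 < 4 * torT (Fintype.card F) by omega) ?_
  rcases (torT_spec hq).2 with ⟨hm, he⟩ | ⟨hm, he⟩
  · rw [if_pos hm]
    rw [show Fintype.card F - 1 = 4 * torT (Fintype.card F) by omega] at hcard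
    linarith
  · rw [if_neg (by omega)]
    rw [he] at hcard
    linarith

theorem odd_index (hq : Fintype.card F % 8 = 3 ∨ Fintype.card F % 8 = 5) :
    Odd (centralizer ({π PSLFour.J} : Set P2)).index := by
  have h := two_mul_index hodd hq
  have ho := Nat.odd_iff.1 hodd
  rw [Nat.odd_iff]
  have key : Fintype.card F * (if Fintype.card F % 4 = 1 then Fintype.card F + 1 else Fintype.card F - 1) % 4 = 2 := by
    rw [Nat.mul_mod]
    split_ifs with hm
    · rw [hm, show (Fintype.card F + 1) % 4 = 2 by omega]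
    · rw [show Fintype.card F % 4 = 3 by omega, show (Fintype.card F - 1) % 4 = 2 by omega]
  omega

/-- Every involution of `PSL(2, q)`, `q ≡ 3, 5 (mod 8)`, has a generalised dihedral centraliser with cyclic
abelian part of order `2 T`. -/
theorem exists_hyp_psl (hq : Fintype.card F % 8 = 3 ∨ Fintype.card F % 8 = 5) {x : P2} (hx : orderOf x = 2) :
    ∃ A : Subgroup P2, Hyp x A ∧ IsCyclic A ∧ Nat.card A = 2 * torT (Fintype.card F) := by
  obtain ⟨g, hg⟩ := isConj_iff.1 (PSLFour.involutions_conj hodd (π PSLFour.J) x (orderOf_πJ hodd) hx)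
  refine ⟨_, hg ▸ (hyp_J hodd (odd_index hodd hq)).conj g, ?_, ?_⟩
  · have hreg : Cfsg.Lib.GLTwo.Reg (PSLFour.J (F := F)) := by
      refine ⟨fun h => ?_, ?_⟩
      · simpa [PSLFour.J, PSLFour.sl01] using h.1
      · rw [Matrix.trace_fin_two]
        simp only [PSLFour.J, PSLFour.sl00, PSLFour.sl11, add_zero, mul_zero]
        intro h4
        have h2 := PSLFour.two_ne (F := F) hodd
        exact mul_ne_zero h2 h2 (by linear_combination h4.symm)
    haveI : IsCyclic ↥(PSLFour.C (F := F)) := hreg.cyclic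
    haveI : IsCyclic (tA : Subgroup P2) :=
      isCyclic_of_surjective _ (MonoidHom.subgroupMap_surjective π (PSLFour.C (F := F)))
    exact isCyclic_of_surjective _ (MonoidHom.subgroupMap_surjective (MulAut.conj g).toMonoidHom (tA : Subgroup P2))
  · rw [Subgroup.card_map_of_injective (MulAut.conj g).injective, card_tA hodd hq]

end Cfsg.Lib.FourGW
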