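import Cfsg.Agent.GenDihedral.Four.L2Psl
import Cfsg.Agent.GenDihedral.CoreThm
import Cfsg.Agent.GenDihedral.Inv

/-!
Groups with a normal subgroup of odd index isomorphic to `PSL(2, q)`, `q ≡ 3, 5 (mod 8)`: tori, their
uniqueness property, invariant subgroups of odd order, orders.
-/

set_option autoImplicit false
set_option linter.unusedSectionVars false
set_option linter.style.haveILetI false

namespace Cfsg.Lib.FourGW

open Subgroup Cfsg.Lib.GenDihedral
open scoped commutatorElement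

universe u v

theorem hyp_of_equiv {G : Type u} [Group G] [Finite G] {H : Type v} [Group H] [Finite H] (e : H ≃* G) {z : G}
    {A : Subgroup G} (K : Hyp z A) {w : H} (hw : e w = z) : Hyp w (A.comap e.toMonoidHom) := by
  have hC : centralizer ({w} : Set H) = (centralizer ({z} : Set G)).comap e.toMonoidHom := by
    ext x
    rw [GenDihedral.mem_cent, Subgroup.mem_comap, GenDihedral.mem_cent, ← hw]
    simp only [MulEquiv.coe_toMonoidHom, ← map_mul, e.injective.eq_iff]
  have ho : ∀ x, orderOf (e x) = orderOf x := fun x => MulEquiv.orderOf_eq e x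
  refine ⟨by rw [← ho, hw, K.two], ?_, ?_, ?_, ?_, ?_, ?_, ?_⟩
  · simpa [hw] using K.mem
  · rw [hC]; exact Subgroup.comap_mono K.le
  · intro a ha b hb
    exact e.injective (by rw [map_mul, map_mul]; exact K.comm _ ha _ hb)
  · rw [hC, Subgroup.relIndex_comap, Subgroup.map_comap_eq_self_of_surjective e.surjective]
    exact K.idx
  · intro a ha h
    exact e.injective (by rw [hw]; exact K.uniq _ ha ((ho a).trans h))
  · rw [hC]
    intro x hx hxA
    exact e.injective (by rw [map_mul, map_one]; exact K.out _ hx hxA)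
  · rw [hC, Subgroup.index_comap_of_surjective _ e.surjective]
    exact K.oddIdx

variable {X : Type u} [Group X] [Finite X]

theorem normalizer_le_map_char' (Y : Subgroup X) (C : Subgroup Y) [hC : C.Characteristic] :
    normalizer (Y : Set X) ≤ normalizer (C.map Y.subtype : Set X) := by
  intro g hg
  refine Cfsg.Lib.Coprime.mem_normalizer_of_conj_mem ?_ ?_
  · rintro _ ⟨c, hc, rfl⟩
    have h := characteristic_iff_map_eq.1 hC (cj Y g hg)
    exact ⟨cj Y g hg c, h ▸ mem_map_of_mem _ hc, cj_apply hg c⟩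
  · rintro _ ⟨c, hc, rfl⟩
    have h := characteristic_iff_map_eq.1 hC (cj Y g⁻¹ (inv_mem hg))
    exact ⟨cj Y g⁻¹ (inv_mem hg) c, h ▸ mem_map_of_mem _ hc, by rw [Subgroup.coe_subtype, cj_apply, inv_inv]⟩

/-- `L` is normal of odd index and isomorphic to `PSL(2, q)`, `q ≡ 3, 5 (mod 8)`; `q = 3` is allowed. -/
structure Top (F : Type) [Field F] [Fintype F] (L : Subgroup X) : Prop where
  normal : L.Normal
  oddIndex : Odd L.index
  iso : Nonempty (L ≃* Matrix.ProjectiveSpecialLinearGroup (Fin 2) F)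
  hq : Fintype.card F % 8 = 3 ∨ Fintype.card F % 8 = 5

/-- The elements of odd order of `L` commuting with `t`, as a generated subgroup: the torus at `t`. -/
def tor (L : Subgroup X) (t : X) : Subgroup X := closure {g | g ∈ L ∧ g * t = t * g ∧ Odd (orderOf g)}

namespace Top

variable {F : Type} [Field F] [Fintype F] {L : Subgroup X} (K : Top F L)
include K

theorem odd_q : Odd (Fintype.card F) := Nat.odd_iff.2 (by have := K.hq; omega)

theorem card_L_mul : Nat.card L * 2 = Fintype.card F * (Fintype.card F ^ 2 - 1) := by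
  obtain ⟨e⟩ := K.iso
  rw [Nat.card_congr e.toEquiv, card_P2_mul K.odd_q]

/-- A two-element lies in `L`. -/
theorem mem_of_sq_mem {g : X} (h : g * g ∈ L) : g ∈ L := by
  haveI := K.normal
  obtain ⟨k, hk⟩ := K.oddIndex
  have h2 : g ^ L.index ∈ L := Subgroup.pow_index_mem L g
  rw [hk, pow_succ, pow_mul, pow_two] at h2
  exact (Subgroup.mul_mem_cancel_left _ (pow_mem h k)).1 h2

theorem mem_of_two {g : X} (h : orderOf g = 2) : g ∈ L :=
  K.mem_of_sq_mem (by rw [mul_self_of_two h]; exact one_mem L)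

theorem exists_hyp {z : X} (hz : orderOf z = 2) : ∃ A : Subgroup L,
    Hyp (⟨z, K.mem_of_two hz⟩ : L) A ∧ IsCyclic A ∧ Nat.card A = 2 * torT (Fintype.card F) := by
  obtain ⟨e⟩ := K.iso
  obtain ⟨A, hA, hc, hcard⟩ := exists_hyp_psl K.odd_q K.hq (x := e ⟨z, K.mem_of_two hz⟩)
    (by rw [MulEquiv.orderOf_eq, Subgroup.orderOf_mk, hz])
  refine ⟨_, hyp_of_equiv e hA rfl, ?_, ?_⟩
  · exact isCyclic_of_surjective _ (MulEquiv.surjective (e.subgroupMap (A.comap e.toMonoidHom) |>.trans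
      (MulEquiv.subgroupCongr (Subgroup.map_comap_eq_self_of_surjective e.surjective A))).symm)
  · rw [← hcard]
    exact Nat.card_congr ((e.subgroupMap (A.comap e.toMonoidHom)).trans
      (MulEquiv.subgroupCongr (Subgroup.map_comap_eq_self_of_surjective e.surjective A))).toEquiv

theorem core {z : X} (hz : orderOf z = 2) (h3 : 3 < Fintype.card F) {A : Subgroup L}
    (hA : Hyp (⟨z, K.mem_of_two hz⟩ : L) A) : Core (⟨z, K.mem_of_two hz⟩ : L) A := by
  obtain ⟨e⟩ := K.iso
  haveI : IsSimpleGroup (Matrix.ProjectiveSpecialLinearGroup (Fin 2) F) :=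
    Matrix.ProjectiveSpecialLinearGroup.rank_two_simple (by rw [Nat.card_eq_fintype_card]; omega)
  haveI : IsSimpleGroup L := e.isSimpleGroup
  refine ⟨hA, inferInstance, fun hs => ?_⟩
  haveI := hs
  have hcomm : ∀ a b : L, a * b = b * a := by
    refine fun a b => IsSimpleGroup.comm_iff_isSolvable.2 ?_ a b
    exact hs
  obtain ⟨x, hx, hxA⟩ : ∃ x ∈ centralizer ({(⟨z, K.mem_of_two hz⟩ : L)} : Set L), x ∉ A := by
    by_contra h
    push Not at h
    have : A.relIndex (centralizer ({(⟨z, K.mem_of_two hz⟩ : L)} : Set L)) = 1 := relIndex_eq_one.2 h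
    rw [hA.idx] at this
    omega
  have hcent : centralizer ({(⟨z, K.mem_of_two hz⟩ : L)} : Set L) = ⊤ :=
    eq_top_iff.2 fun y _ => GenDihedral.mem_cent.2 (hcomm _ _)
  obtain ⟨a, b, hab⟩ : ∃ a b : L, a * b ≠ b * a := by
    by_contra h
    push Not at h
    have hA1 : ∀ a ∈ A, a * a = 1 := fun a ha => by
      have h' := hA.inverts hx hxA ha
      rw [h x a, mul_inv_cancel_right] at h'
      exact mul_eq_one_iff_eq_inv.2 h'
    have h2 : ∀ y : L, y * y = 1 := fun y => by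
      by_cases hy : y ∈ A
      · exact hA1 y hy
      · exact hA.out y (hcent ▸ mem_top y) hy
    have hcard := K.card_L_mul
    obtain ⟨m, hm⟩ : 3 ∣ Nat.card L := by
      have h3 : 3 ∣ Fintype.card F * (Fintype.card F ^ 2 - 1) := by
        obtain h | h | h : Fintype.card F % 3 = 0 ∨ Fintype.card F % 3 = 1 ∨ Fintype.card F % 3 = 2 := by omega
        · exact Dvd.dvd.mul_right (Nat.dvd_of_mod_eq_zero h) _
        all_goals
          refine Dvd.dvd.mul_left (Nat.dvd_of_mod_eq_zero ?_) _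
          have h1 : 1 ≤ Fintype.card F ^ 2 := Nat.one_le_pow _ _ (by omega)
          have h2 : Fintype.card F ^ 2 % 3 = 1 := by rw [pow_two, Nat.mul_mod, h]
          omega
      rw [← hcard] at h3
      omega
    haveI : Fact (Nat.Prime 3) := ⟨Nat.prime_three⟩
    obtain ⟨y, hy⟩ := exists_prime_orderOf_dvd_card' 3 (⟨m, hm⟩ : 3 ∣ Nat.card L)
    have := orderOf_dvd_of_pow_eq_one (show y ^ 2 = 1 by rw [pow_two, h2])
    rw [hy] at this
    omega
  exact hab (hcomm a b)

theorem torT_one (h3 : ¬ 3 < Fintype.card F) : torT (Fintype.card F) = 1 := by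
  have := K.hq
  have h : Fintype.card F = 3 := by omega
  simp [h, torT]

theorem mem_tor_iff {t g : X} (ht : orderOf t = 2) :
    g ∈ tor L t ↔ ∃ hg : g ∈ L, (⟨g, hg⟩ : L) ∈ Dg (⟨t, K.mem_of_two ht⟩ : L) := by
  refine ⟨fun h => ?_, ?_⟩
  · induction h using closure_induction with
    | mem x hx =>
      exact ⟨hx.1, subset_Dg (Subtype.ext hx.2.1) (by rw [Subgroup.orderOf_mk]; exact hx.2.2)⟩
    | one => exact ⟨one_mem L, one_mem (Dg (⟨t, K.mem_of_two ht⟩ : L))⟩
    | mul a b _ _ ha hb => exact ⟨mul_mem ha.1 hb.1, mul_mem ha.2 hb.2⟩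
    | inv a _ ha => exact ⟨inv_mem ha.1, inv_mem ha.2⟩
  · rintro ⟨hg, h⟩
    obtain ⟨A, hA, -, -⟩ := K.exists_hyp ht
    have h' := hA.mem_Dg.1 h
    exact subset_closure ⟨hg, congrArg Subtype.val h'.1, by rw [Subgroup.orderOf_mk] at h'; exact h'.2⟩

theorem mem_tor {t g : X} (ht : orderOf t = 2) :
    g ∈ tor L t ↔ g ∈ L ∧ g * t = t * g ∧ Odd (orderOf g) := by
  refine ⟨fun h => ?_, fun h => subset_closure h⟩
  obtain ⟨hg, h'⟩ := (K.mem_tor_iff ht).1 h
  obtain ⟨A, hA, -, -⟩ := K.exists_hyp ht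
  have h'' := hA.mem_Dg.1 h'
  exact ⟨hg, congrArg Subtype.val h''.1, by rw [Subgroup.orderOf_mk] at h''; exact h''.2⟩

theorem tor_comm {t a b : X} (ht : orderOf t = 2) (ha : a ∈ tor L t) (hb : b ∈ tor L t) : a * b = b * a := by
  obtain ⟨A, hA, -, -⟩ := K.exists_hyp ht
  obtain ⟨ha', ha⟩ := (K.mem_tor_iff ht).1 ha
  obtain ⟨hb', hb⟩ := (K.mem_tor_iff ht).1 hb
  exact congrArg Subtype.val (hA.Dg_comm ha hb)

/-- The torus is cyclic of order `T`. -/
theorem exists_gen {t : X} (ht : orderOf t = 2) :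
    ∃ τ : X, tor L t = zpowers τ ∧ orderOf τ = torT (Fintype.card F) := by
  obtain ⟨A, hA, hc, hcard⟩ := K.exists_hyp ht
  obtain ⟨a, ha⟩ := hc.exists_generator
  have hao : orderOf a = 2 * torT (Fintype.card F) := by rw [← hcard, orderOf_eq_card_of_forall_mem_zpowers ha]
  have hTodd := (torT_spec K.hq).1
  have hτo : orderOf ((((a * a : A) : L) : X)) = torT (Fintype.card F) := by
    rw [orderOf_coe, orderOf_coe, ← pow_two, orderOf_pow' a two_ne_zero, hao]
    simp
  refine ⟨(((a * a : A) : L) : X), le_antisymm (fun g hg => ?_) (zpowers_le.2 ?_), hτo⟩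
  · obtain ⟨hgL, hgD⟩ := (K.mem_tor_iff ht).1 hg
    have hgo := (K.mem_tor ht).1 hg |>.2.2
    obtain ⟨k, hk⟩ := mem_zpowers_iff.1 (ha ⟨⟨g, hgL⟩, hA.Dg_le hgD⟩)
    have hkg : (((a ^ k : A) : L) : X) = g := by rw [hk]
    obtain ⟨j, hj⟩ := hgo
    have hpow : g ^ (orderOf g) = 1 := pow_orderOf_eq_one g
    refine ⟨k * (j + 1 : ℤ), ?_⟩
    show (((a * a : A) : L) : X) ^ (k * (j + 1 : ℤ)) = g
    have hgg : g ^ (2 * (j + 1)) = g := by
      rw [show 2 * (j + 1) = orderOf g + 1 by omega, pow_succ, hpow, one_mul]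
    rw [← SubgroupClass.coe_zpow, ← SubgroupClass.coe_zpow, ← pow_two, ← zpow_natCast, ← zpow_mul,
      show ((2 : ℕ) : ℤ) * (k * (j + 1 : ℤ)) = k * ((2 * (j + 1) : ℕ) : ℤ) by push_cast; ring, zpow_mul,
      zpow_natCast, SubgroupClass.coe_pow, SubgroupClass.coe_pow, hkg, hgg]
  · refine subset_closure ⟨((a * a : A) : L).2, ?_, by rw [hτo]; exact hTodd⟩
    exact congrArg Subtype.val (GenDihedral.mem_cent.1 (hA.le (a * a : A).2))

theorem card_tor {t : X} (ht : orderOf t = 2) : Nat.card (tor L t) = torT (Fintype.card F) := by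
  obtain ⟨τ, h, ho⟩ := K.exists_gen ht
  rw [h, Nat.card_zpowers, ho]

theorem tor_inv {t u g : X} (ht : orderOf t = 2) (hu : orderOf u = 2) (hne : u ≠ t) (hc : u * t = t * u)
    (hg : g ∈ tor L t) : u * g * u⁻¹ = g⁻¹ := by
  obtain ⟨hgL, hg⟩ := (K.mem_tor_iff ht).1 hg
  obtain ⟨A, hA, -, -⟩ := K.exists_hyp ht
  exact congrArg Subtype.val (hA.inv_Dg (t := ⟨u, K.mem_of_two hu⟩) (a := ⟨g, hgL⟩)
    (by rw [Subgroup.orderOf_mk, hu]) (fun e => hne (congrArg Subtype.val e)) (Subtype.ext hc) hg)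

/-- Two tori of commuting involutions meet trivially. -/
theorem eq_one_of_two_tori {t u g : X} (ht : orderOf t = 2) (hu : orderOf u = 2) (hne : u ≠ t)
    (hc : u * t = t * u) (hg : g ∈ tor L t) (hgu : g * u = u * g) : g = 1 := by
  have h := K.tor_inv ht hu hne hc hg
  rw [← hgu, mul_inv_cancel_right] at h
  exact eq_one_of_sq_of_odd (mul_eq_one_iff_eq_inv.2 h) ((K.mem_tor ht).1 hg).2.2

theorem conj_tor {t a : X} (ht : orderOf t = 2) (g : X) (ha : a ∈ tor L t) :
    g * a * g⁻¹ ∈ tor L (g * t * g⁻¹) := by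
  haveI := K.normal
  obtain ⟨haL, hat, hao⟩ := (K.mem_tor ht).1 ha
  refine subset_closure ⟨Subgroup.Normal.conj_mem inferInstance a haL g, ?_, ?_⟩
  · rw [_root_.conj_mul, _root_.conj_mul, hat]
  · rw [← MulAut.conj_apply, MulEquiv.orderOf_eq]; exact hao

/-- The only involution centralising a nontrivial element of the torus at `t` is `t`. -/
theorem eq_of_comm_tor {t x a : X} (ht : orderOf t = 2) (hx : orderOf x = 2) (ha : a ∈ tor L t) (ha1 : a ≠ 1)
    (hc : x * a = a * x) : x = t := by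
  obtain ⟨haL, haD⟩ := (K.mem_tor_iff ht).1 ha
  by_cases h3 : 3 < Fintype.card F
  · obtain ⟨A, hA, -, -⟩ := K.exists_hyp ht
    have hC := K.core ht h3 hA
    obtain ⟨T, s, hTz, hzT, hsT, F4⟩ := hC.exists_two_group
    have h := hC.centralizer_le hTz hzT hsT F4 haD (fun e => ha1 (congrArg Subtype.val e))
      (x := ⟨x, K.mem_of_two hx⟩) (GenDihedral.mem_cent.2 (Subtype.ext hc))
    exact congrArg Subtype.val (hA.uniq _ h (by rw [Subgroup.orderOf_mk, hx]))
  · exfalso
    have h := K.card_tor ht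
    rw [K.torT_one h3] at h
    exact ha1 (Subgroup.mem_bot.1 (Subgroup.eq_bot_of_card_eq _ h ▸ ha))

/-- A torus is a trivial intersection set with normaliser in `C(t)`. -/
theorem ti {t a g : X} (ht : orderOf t = 2) (ha : a ∈ tor L t) (ha1 : a ≠ 1)
    (hc : g * a * g⁻¹ * t = t * (g * a * g⁻¹)) : g * t * g⁻¹ = t := by
  haveI := K.normal
  obtain ⟨haL, hat, hao⟩ := (K.mem_tor ht).1 ha
  have hb : g * a * g⁻¹ ∈ tor L t := subset_closure ⟨Subgroup.Normal.conj_mem inferInstance a haL g, hc,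
    by rw [← MulAut.conj_apply, MulEquiv.orderOf_eq]; exact hao⟩
  refine K.eq_of_comm_tor ht (by rw [← MulAut.conj_apply, MulEquiv.orderOf_eq, ht]) hb
    (fun e => ha1 (conj_eq_one_iff.1 e)) ?_
  rw [_root_.conj_mul, _root_.conj_mul, hat]

theorem cent_tor_le {t a g : X} (ht : orderOf t = 2) (ha : a ∈ tor L t) (ha1 : a ≠ 1) (hc : g * a = a * g) :
    g * t = t * g := by
  obtain ⟨-, hat, -⟩ := (K.mem_tor ht).1 ha
  exact mul_inv_eq_iff_eq_mul.1 (K.ti ht ha ha1 (by rw [hc, mul_inv_cancel_right, hat]))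

/-- An element of odd order inverted by an element modulo nothing lies in `L`. -/
theorem mem_of_inverted {u g : X} (hu : orderOf u = 2) (hg : u * g * u⁻¹ = g⁻¹) : g ∈ L := by
  haveI := K.normal
  refine K.mem_of_sq_mem ?_
  have h := mul_mem (K.mem_of_two hu) (Subgroup.Normal.conj_mem inferInstance _
    (inv_mem (K.mem_of_two hu)) g⁻¹)
  rw [show u * (g⁻¹ * u⁻¹ * g⁻¹⁻¹) = (u * g * u⁻¹)⁻¹ * g by group, hg, inv_inv] at h
  exact h

theorem mem_tor_of_inverted {t u g : X} (ht : orderOf t = 2) (hu : orderOf u = 2) (hgt : g * t = t * g)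
    (ho : Odd (orderOf g)) (hg : u * g * u⁻¹ = g⁻¹) : g ∈ tor L t :=
  (K.mem_tor ht).2 ⟨K.mem_of_inverted hu hg, hgt, ho⟩

/-- An invariant subgroup of odd order is centralised by an involution of the four-group. -/
theorem exists_fix {t u w : X} (F4 : IsFour t u w) {Q : Subgroup X} (ho : Odd (Nat.card Q))
    (hQ : Vg t u ≤ normalizer (Q : Set X)) :
    ∃ x, (x = t ∨ x = u ∨ x = w) ∧ Q ≤ centralizer ({x} : Set X) := by
  haveI := K.normal
  have htQ : t ∈ normalizer (Q : Set X) := hQ (F4.mem_iff.2 (Or.inr (Or.inl rfl)))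
  by_cases h0 : Q ⊓ L = ⊥
  · refine ⟨t, Or.inl rfl, fun g hg => GenDihedral.mem_cent.2 ?_⟩
    have h1 : g * t * g⁻¹ * t⁻¹ ∈ Q ⊓ L := by
      refine Subgroup.mem_inf.2 ⟨?_, mul_mem (Subgroup.Normal.conj_mem inferInstance t (K.mem_of_two F4.z2) g)
        (inv_mem (K.mem_of_two F4.z2))⟩
      rw [show g * t * g⁻¹ * t⁻¹ = g * (t * g⁻¹ * t⁻¹) by group]
      exact mul_mem hg ((mem_normalizer_iff.1 htQ _).1 (inv_mem (show g ∈ Q from hg)))
    rw [h0, mem_bot] at h1
    exact mul_inv_eq_iff_eq_mul.1 (mul_inv_eq_one.1 h1)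
  · haveI : Group.IsSolvable (Q ⊓ L : Subgroup X) := solvable_of_odd (odd_of_le ho inf_le_left)
    obtain ⟨A, hAQ, hAne, hAc, hnA⟩ : ∃ A : Subgroup X, A ≤ Q ⊓ L ∧ A ≠ ⊥ ∧
        (∀ a ∈ A, ∀ b ∈ A, a * b = b * a) ∧
        normalizer ((Q ⊓ L : Subgroup X) : Set X) ≤ normalizer (A : Set X) := by
      set Y := (Q ⊓ L : Subgroup X)
      haveI : Nontrivial Y := (Subgroup.nontrivial_iff_ne_bot Y).2 h0
      obtain ⟨n, hn⟩ := (Group.isSolvable_def Y).1 ‹_›
      classical
      let k := Nat.find (⟨n, hn⟩ : ∃ n, derivedSeries Y n = ⊥)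
      have hk : derivedSeries Y k = ⊥ := Nat.find_spec (⟨n, hn⟩ : ∃ n, derivedSeries Y n = ⊥)
      obtain ⟨m, hm⟩ : ∃ m, k = m + 1 := by
        refine ⟨k - 1, ?_⟩
        rcases Nat.eq_zero_or_pos k with h | h
        · rw [h, derivedSeries_zero] at hk
          exact absurd hk top_ne_bot
        · omega
      have hm0 : derivedSeries Y m ≠ ⊥ := Nat.find_min (⟨n, hn⟩ : ∃ n, derivedSeries Y n = ⊥) (by omega)
      refine ⟨(derivedSeries Y m).map Y.subtype, map_subtype_le _, ?_, ?_, ?_⟩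
      · rwa [Ne, Subgroup.map_eq_bot_iff_of_injective _ Y.subtype_injective]
      · rintro _ ⟨a, ha, rfl⟩ _ ⟨b, hb, rfl⟩
        have : ⁅a, b⁆ ∈ derivedSeries Y k := by
          rw [hm, derivedSeries_succ]; exact commutator_mem_commutator ha hb
        rw [hk, mem_bot, commutatorElement_eq_one_iff_mul_comm] at this
        exact congrArg Subtype.val this
      · exact normalizer_le_map_char' Y (derivedSeries Y m)
    have hAo : Odd (Nat.card A) := odd_of_le ho (hAQ.trans inf_le_left)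
    have hLn : Vg t u ≤ normalizer ((Q ⊓ L : Subgroup X) : Set X) := fun g hg => by
      refine mem_normalizer_iff.2 fun y => ?_
      rw [Subgroup.mem_inf, Subgroup.mem_inf, mem_normalizer_iff.1 (hQ hg) y,
        mem_normalizer_iff.1 ((normalizer_eq_top L).ge (mem_top g)) y]
    have hQn : Q ≤ normalizer ((Q ⊓ L : Subgroup X) : Set X) := fun g hg => by
      refine mem_normalizer_iff.2 fun y => ?_
      rw [Subgroup.mem_inf, Subgroup.mem_inf, mem_normalizer_iff.1 (Subgroup.le_normalizer hg) y,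
        mem_normalizer_iff.1 ((normalizer_eq_top L).ge (mem_top g)) y]
    have hVA : Vg t u ≤ normalizer (A : Set X) := hLn.trans hnA
    obtain ⟨x, hx, hx2, a, ha, hax, ha1⟩ : ∃ x, (x = t ∨ x = u ∨ x = w) ∧ orderOf x = 2 ∧
        ∃ a ∈ A, a * x = x * a ∧ a ≠ 1 := by
      obtain ⟨a, haA, hane⟩ := A.bot_or_exists_ne_one.resolve_left hAne
      have hconj : ∀ v : X, orderOf v = 2 → v ∈ Vg t u →
          (∃ b ∈ A, b * v = v * b ∧ b ≠ 1) ∨ v * a * v⁻¹ = a⁻¹ := by
        intro v hv hvV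
        have hva := (mem_normalizer_iff.1 (hVA hvV) a).1 haA
        by_cases h1 : a * (v * a * v⁻¹) = 1
        · exact Or.inr (eq_inv_of_mul_eq_one_right h1)
        · refine Or.inl ⟨_, mul_mem haA hva, conj_fix_iff.1 ?_, h1⟩
          rw [← _root_.conj_mul, conj_conj v v, mul_self_of_two hv, inv_one, one_mul, mul_one, hAc _ hva _ haA]
      rcases hconj t F4.z2 (F4.mem_iff.2 (Or.inr (Or.inl rfl))) with h | h1
      · exact ⟨t, Or.inl rfl, F4.z2, h⟩
      rcases hconj u F4.t2 (F4.mem_iff.2 (Or.inr (Or.inr (Or.inl rfl)))) with h | h2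
      · exact ⟨u, Or.inr (Or.inl rfl), F4.t2, h⟩
      refine ⟨w, Or.inr (Or.inr rfl), F4.s2, a, haA, conj_fix_iff.1 ?_, hane⟩
      rw [← F4.zt, ← conj_conj, h2, ← _root_.conj_inv, h1, inv_inv]
    have haT : a ∈ tor L x := (K.mem_tor hx2).2 ⟨(hAQ ha).2, hax, orderOf_odd hAo ha⟩
    have hAx : ∀ b ∈ A, b * x = x * b := fun b hb => K.cent_tor_le hx2 haT ha1 (hAc b hb a ha)
    refine ⟨x, hx, fun g hg => GenDihedral.mem_cent.2 (mul_inv_eq_iff_eq_mul.1 ?_)⟩
    exact K.ti hx2 haT ha1 (hAx _ ((mem_normalizer_iff.1 (hnA (hQn hg)) a).1 ha))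

/-- A nontrivial torus element moves the torus of another involution. -/
theorem moves {t u a g : X} (ht : orderOf t = 2) (hu : orderOf u = 2) (hne : u ≠ t) (hc : u * t = t * u)
    (hg : g ∈ tor L t) (hg1 : g ≠ 1) (ha : a ∈ tor L u) (ha1 : a ≠ 1) :
    g * a * g⁻¹ * u ≠ u * (g * a * g⁻¹) := fun h =>
  hg1 (K.eq_one_of_two_tori ht hu hne hc hg (mul_inv_eq_iff_eq_mul.1 (K.ti hu ha ha1 h)))

end Top

end Cfsg.Lib.FourGW
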